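import Groth.Agent.Lib.PicElkik1.Sim
import Groth.Agent.Lib.ComplAlg.Main
import Groth.Agent.Lib.AdicFS.Completion
import Groth.Agent.Lib.AdicExtra.Complete
import Mathlib

/-!
# Comparing finite modules through a completion
-/

set_option autoImplicit false

universe u

open scoped TensorProduct

namespace GrothLib.PicElkik1

/-- A map out of a base change is congruent to a map defined over the base. -/
theorem exists_hom_approx {R S : Type u} [CommRing R] [CommRing S] [Algebra R S] [Module.Flat R S]
    (I : Ideal R) (hsurj : ∀ x : S, ∃ a : R, x - algebraMap R S a ∈ I.map (algebraMap R S))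
    {M N : Type u} [AddCommGroup M] [Module R M] [AddCommGroup N] [Module R N] [Module.FinitePresentation R M]
    (θ : S ⊗[R] M →ₗ[S] S ⊗[R] N) :
    ∃ h : M →ₗ[R] N, ∀ x, θ x - h.baseChange S x ∈ I.map (algebraMap R S) • (⊤ : Submodule S (S ⊗[R] N)) := by
  refine (Module.FinitePresentation.isBaseChange_map R M N S).inductionOn θ
    (fun θ => ∃ h : M →ₗ[R] N, ∀ x, θ x - h.baseChange S x ∈ I.map (algebraMap R S) • (⊤ : Submodule S (S ⊗[R] N)))
    ⟨0, fun x => by simp⟩ (fun m => ⟨m, fun x => by simp⟩) ?_ ?_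
  · rintro s φ ⟨h, hh⟩
    obtain ⟨a, ha⟩ := hsurj s
    refine ⟨a • h, fun x => ?_⟩
    have h1 : (s • φ) x - (a • h).baseChange S x =
        s • (φ x - h.baseChange S x) + (s - algebraMap R S a) • h.baseChange S x := by
      rw [LinearMap.smul_apply, LinearMap.baseChange_smul, LinearMap.smul_apply, smul_sub, sub_smul s (algebraMap R S a) (h.baseChange S x), algebraMap_smul]
      abel
    rw [h1]
    exact add_mem (Submodule.smul_mem _ _ (hh x)) (Submodule.smul_mem_smul ha trivial)
  · rintro φ φ' ⟨h, hh⟩ ⟨h', hh'⟩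
    refine ⟨h + h', fun x => ?_⟩
    have h1 : (φ + φ') x - (h + h').baseChange S x = (φ x - h.baseChange S x) + (φ' x - h'.baseChange S x) := by
      simp only [LinearMap.add_apply, LinearMap.baseChange_add]
      abel
    rw [h1]
    exact add_mem (hh x) (hh' x)

/-- A surjection of completions gives a surjection over the base. -/
theorem exists_surjective {R S : Type u} [CommRing R] [CommRing S] [Algebra R S] [Module.Flat R S]
    (I : Ideal R) (hI : I ≤ Ideal.jacobson ⊥)
    (hsurj : ∀ x : S, ∃ a : R, x - algebraMap R S a ∈ I.map (algebraMap R S))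
    (hinj : ∀ a : R, algebraMap R S a ∈ I.map (algebraMap R S) → a ∈ I)
    {M N : Type u} [AddCommGroup M] [Module R M] [AddCommGroup N] [Module R N] [Module.FinitePresentation R M]
    [Module.Finite R N] (θ : S ⊗[R] M →ₗ[S] S ⊗[R] N) (hθ : Function.Surjective θ) :
    ∃ h : M →ₗ[R] N, Function.Surjective h := by
  obtain ⟨h, hh⟩ := exists_hom_approx I hsurj θ
  refine ⟨h, ?_⟩
  rw [← LinearMap.range_eq_top, eq_top_iff]
  refine Submodule.le_of_le_smul_of_le_jacobson_bot Module.Finite.fg_top hI ?_
  rintro y -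
  -- reduction modulo `I`
  choose r hr using hsurj
  obtain ⟨r', hr'⟩ : ∃ r' : S →ₗ[R] R ⧸ I, ∀ (x : S) (a : R), x - algebraMap R S a ∈ I.map (algebraMap R S) →
      r' x = Ideal.Quotient.mk I a := by
    have key : ∀ (x : S) (a : R), x - algebraMap R S a ∈ I.map (algebraMap R S) →
        Ideal.Quotient.mk I (r x) = Ideal.Quotient.mk I a := fun x a ha =>
      Ideal.Quotient.eq.2 (hinj _ (by
        rw [map_sub]
        convert sub_mem ha (hr x) using 1
        ring))
    refine ⟨{ toFun := fun x => Ideal.Quotient.mk I (r x), map_add' := fun x x' => ?_, map_smul' := fun c x => ?_ },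
      fun x a ha => key x a ha⟩
    · rw [← map_add]
      refine key _ _ ?_
      rw [map_add]
      convert add_mem (hr x) (hr x') using 1
      ring
    · rw [RingHom.id_apply, show c • Ideal.Quotient.mk I (r x) = Ideal.Quotient.mk I (c * r x) from rfl]
      refine key _ _ ?_
      rw [map_mul, Algebra.smul_def, ← mul_sub]
      exact Ideal.mul_mem_left _ _ (hr x)
  obtain ⟨L, hL⟩ : ∃ L : S ⊗[R] N →ₗ[R] (R ⧸ I) ⊗[R] N, L = r'.rTensor N := ⟨_, rfl⟩
  have hL0 : ∀ z ∈ I.map (algebraMap R S) • (⊤ : Submodule S (S ⊗[R] N)), L z = 0 := by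
    intro z hz
    refine Submodule.smul_induction_on hz (fun c hc w hw => ?_) fun u v hu hv => by rw [map_add, hu, hv, add_zero]
    clear hw
    induction w using TensorProduct.induction_on with
    | zero => rw [smul_zero, map_zero]
    | add u v hu hv => rw [smul_add, map_add, hu, hv, add_zero]
    | tmul s n =>
      rw [hL, TensorProduct.smul_tmul', LinearMap.rTensor_tmul, hr' (c • s) 0 (by
        rw [map_zero, sub_zero, smul_eq_mul]
        exact Ideal.mul_mem_right _ _ hc), map_zero, TensorProduct.zero_tmul]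
  obtain ⟨x, hx⟩ := hθ (1 ⊗ₜ y)
  obtain ⟨m, hm⟩ : ∃ m : M, L (h.baseChange S x) = L (1 ⊗ₜ h m) := by
    clear hx
    induction x using TensorProduct.induction_on with
    | zero => exact ⟨0, by simp⟩
    | tmul s m =>
      refine ⟨r s • m, ?_⟩
      rw [LinearMap.baseChange_tmul, hL, LinearMap.rTensor_tmul, LinearMap.rTensor_tmul, map_smul,
        ← TensorProduct.smul_tmul, ← map_smul, hr' _ (r s) (hr s), hr' (r s • (1 : S)) (r s) (by
          rw [Algebra.smul_def, mul_one, sub_self]; exact zero_mem _)]
    | add u v hu hv =>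
      obtain ⟨m, hm⟩ := hu
      obtain ⟨m', hm'⟩ := hv
      exact ⟨m + m', by rw [map_add, map_add, hm, hm', ← map_add, ← TensorProduct.tmul_add, map_add]⟩
  have h1 : L (1 ⊗ₜ y) = L (1 ⊗ₜ h m) := by
    rw [← hm, ← sub_eq_zero, ← map_sub, ← hx]
    exact hL0 _ (hh x)
  rw [← sub_eq_zero, ← map_sub, ← TensorProduct.tmul_sub, hL, LinearMap.rTensor_tmul,
    hr' 1 1 (by rw [map_one, sub_self]; exact zero_mem _)] at h1
  have h2 : Submodule.Quotient.mk (y - h m) = (0 : N ⧸ I • (⊤ : Submodule R N)) := by
    have := congrArg (TensorProduct.quotTensorEquivQuotSMul N I) h1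
    rwa [map_zero, TensorProduct.quotTensorEquivQuotSMul_mk_tmul, one_smul] at this
  rw [Submodule.Quotient.mk_eq_zero] at h2
  exact Submodule.mem_sup.2 ⟨h m, ⟨m, rfl⟩, y - h m, h2, add_sub_cancel _ _⟩

/-- Finite modules with isomorphic completions are isomorphic. -/
theorem nonempty_equiv_of_baseChange {R S : Type u} [CommRing R] [IsNoetherianRing R] [CommRing S] [Algebra R S]
    [Module.Flat R S] (I : Ideal R) (hI : I ≤ Ideal.jacobson ⊥)
    (hsurj : ∀ x : S, ∃ a : R, x - algebraMap R S a ∈ I.map (algebraMap R S))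
    (hinj : ∀ a : R, algebraMap R S a ∈ I.map (algebraMap R S) → a ∈ I)
    {M N : Type u} [AddCommGroup M] [Module R M] [AddCommGroup N] [Module R N] [Module.Finite R M]
    [Module.Finite R N] (θ : S ⊗[R] M ≃ₗ[S] S ⊗[R] N) : Nonempty (M ≃ₗ[R] N) := by
  haveI : Module.FinitePresentation R M := Module.finitePresentation_of_finite _ _
  haveI : Module.FinitePresentation R N := Module.finitePresentation_of_finite _ _
  obtain ⟨h, hh⟩ := exists_surjective I hI hsurj hinj θ.toLinearMap θ.surjective
  obtain ⟨g, hg⟩ := exists_surjective I hI hsurj hinj θ.symm.toLinearMap θ.symm.surjective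
  have hinj' := OrzechProperty.injective_of_surjective_endomorphism (g ∘ₗ h) (hg.comp hh)
  exact ⟨LinearEquiv.ofBijective h ⟨Function.Injective.of_comp hinj', hh⟩⟩

/-- The completion of a Noetherian ring at an ideal in the Jacobson radical is faithfully flat. -/
theorem faithfullyFlat_adicCompletion {A : Type u} [CommRing A] [IsNoetherianRing A] (J : Ideal A)
    (hJ : J ≤ Ideal.jacobson ⊥) : Module.FaithfullyFlat A (AdicCompletion J A) := by
  haveI : Module.Flat A (AdicCompletion J A) := AdicCompletion.flat_of_isNoetherian J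
  refine ⟨fun m hm htop => hm.ne_top (eq_top_iff.2 fun x _ => ?_)⟩
  have hJm : J ≤ m := hJ.trans (sInf_le ⟨bot_le, hm⟩)
  have h1 : (1 : AdicCompletion J A) ∈ m.map (algebraMap A (AdicCompletion J A)) := by
    rw [← Submodule.restrictScalars_mem A, ← Ideal.smul_top_eq_map, htop]
    trivial
  have h2 := Ideal.mem_map_of_mem (AdicCompletion.evalOneₐ J).toRingHom h1
  rw [Ideal.map_map, AdicCompletion.evalOneₐ_comp_algebraMap_eq_mk, map_one, ← map_one (Ideal.Quotient.mk J),
    ← Ideal.mem_comap, Ideal.comap_map_of_surjective' _ Ideal.Quotient.mk_surjective, Ideal.mk_ker,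
    sup_eq_left.2 hJm] at h2
  simpa using m.mul_mem_left x h2

/-- A map bijective modulo all powers of an ideal induces a map to the completion. -/
theorem exists_map_completion {A A' : Type u} [CommRing A] [CommRing A'] [IsNoetherianRing A']
    [IsNoetherianRing A] (φ : A →+* A') (J : Ideal A)
    (hq : ∀ n : ℕ, Function.Bijective (Ideal.quotientMap (Ideal.map φ (J ^ n)) φ Ideal.le_comap_map)) :
    ∃ ι : A' →+* AdicCompletion J A, (∀ a, ι (φ a) = algebraMap A (AdicCompletion J A) a) ∧ ι.Flat := by
  have hC := ComplAlg.isFormalCompl_adicCompletion (J.map φ)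
  have hIfg : (J.map φ).FG := IsNoetherian.noetherian _
  haveI : IsAdicComplete ((J.map φ).map (algebraMap A' (AdicCompletion (J.map φ) A'))) (AdicCompletion (J.map φ) A') :=
    AdicCompletion.isAdicComplete_self (J.map φ) hIfg
  have hpow : ∀ n, (J ^ n).map ((algebraMap A' (AdicCompletion (J.map φ) A')).comp φ) =
      ((J.map φ).map (algebraMap A' (AdicCompletion (J.map φ) A'))) ^ n := fun n => by
    rw [← Ideal.map_map, Ideal.map_pow, Ideal.map_pow]
  obtain ⟨e, he⟩ := ComplAlg.exists_equiv_adicCompletion ((algebraMap A' (AdicCompletion (J.map φ) A')).comp φ) J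
    (fun n c => by
      obtain ⟨a', ha'⟩ := hC.surj n c
      obtain ⟨y, hy⟩ := (hq n).2 (Ideal.Quotient.mk _ a')
      obtain ⟨a, rfl⟩ := Ideal.Quotient.mk_surjective y
      rw [Ideal.quotientMap_mk, Ideal.Quotient.eq, Ideal.map_pow] at hy
      refine ⟨a, ?_⟩
      rw [← Ideal.map_map, Ideal.map_pow φ J n, RingHom.comp_apply]
      convert sub_mem ha' (Ideal.mem_map_of_mem (algebraMap A' (AdicCompletion (J.map φ) A')) hy) using 1
      rw [map_sub]; ring)
    (fun n a ha => by
      rw [← Ideal.map_map, Ideal.map_pow φ J n, RingHom.comp_apply] at ha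
      have h1 := hC.inj n _ ha
      refine Ideal.Quotient.eq_zero_iff_mem.1 ((hq n).1 ?_)
      rw [map_zero, Ideal.quotientMap_mk, Ideal.Quotient.eq_zero_iff_mem, Ideal.map_pow]
      exact h1)
    (fun c hc => IsHausdorff.haus (IsAdicComplete.toIsHausdorff (I := (J.map φ).map (algebraMap A' (AdicCompletion (J.map φ) A'))) (M := AdicCompletion (J.map φ) A')) c fun n => by
      rw [SModEq.sub_mem, sub_zero, smul_eq_mul, Ideal.mul_top, ← hpow]
      exact hc n)
    fun x hx => by
      obtain ⟨l, hl⟩ := IsPrecomplete.prec (IsAdicComplete.toIsPrecomplete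
        (I := (J.map φ).map (algebraMap A' (AdicCompletion (J.map φ) A')))) (f := x) (fun {m n} hmn => by
          induction n, hmn using Nat.le_induction with
          | base => exact SModEq.refl _
          | succ n hmn ih =>
            refine ih.trans (SModEq.symm ?_)
            rw [SModEq.sub_mem, smul_eq_mul, Ideal.mul_top]
            exact Ideal.pow_le_pow_right hmn (hpow n ▸ hx n))
      refine ⟨l, fun n => ?_⟩
      have := hl n
      rw [SModEq.sub_mem, smul_eq_mul, Ideal.mul_top] at this
      rw [hpow]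
      exact this
  refine ⟨e.toRingHom.comp (algebraMap A' _), fun a => he a, ?_⟩
  exact RingHom.Flat.comp (RingHom.flat_algebraMap_iff.2 hC.flat) (RingHom.Flat.of_bijective e.bijective)

end GrothLib.PicElkik1
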